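import Mathlib

/-!
Elements of order `p * q`, and sections forced by two non-adjacent primes of the prime graph.
-/

namespace Cfsg.Agent.Lib.NonadjacentPrimes

open Subgroup
open scoped commutatorElement

/-- An element of order divisible by `p*q` in a quotient gives one of order `p*q`. -/
theorem exists_orderOf_of_map {G H : Type*} [Group G] [Finite G] [Group H] (f : G →* H) (g : G)
    {m : ℕ} (hm : orderOf (f g) = m) : ∃ x : G, orderOf x = m := by
  have h : m ∣ orderOf g := hm ▸ orderOf_map_dvd f g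
  exact ⟨g ^ (orderOf g / m), orderOf_pow_orderOf_div (orderOf_pos g).ne' h⟩

/-- Frattini argument producing an element of order `p * q`. -/
theorem exists_orderOf_mul_of_normal {G : Type*} [Group G] [Finite G] (H : Subgroup G) [H.Normal]
    {p q : ℕ} [hp : Fact p.Prime] [hq : Fact q.Prime] (hne : p ≠ q) (hpH : p ∣ Nat.card H)
    (hqi : q ∣ H.index) (hmod : ∀ k, 1 ≤ k → p ^ k ∣ Nat.card G → p ^ k % q ≠ 1) :
    ∃ x : G, orderOf x = p * q := by
  let P : Sylow p H := default
  set P' : Subgroup G := (P : Subgroup H).map H.subtype with hP'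
  set N : Subgroup G := Subgroup.normalizer (P' : Set G) with hN
  have hsup : N ⊔ H = ⊤ := Sylow.normalizer_sup_eq_top P
  have hqN : q ∣ Nat.card N := by
    have h1 : H.index = (H.subgroupOf N).index := by
      have h : H.relIndex N = H.relIndex (N ⊔ H) := by rw [Subgroup.relIndex_sup_right]
      rw [hsup, Subgroup.relIndex_top_right] at h
      exact h.symm
    rw [h1] at hqi
    exact hqi.trans (Subgroup.index_dvd_card _)
  obtain ⟨y, hy⟩ := exists_prime_orderOf_dvd_card' q hqN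
  have hy' : orderOf (y : G) = q := by rw [Subgroup.orderOf_coe]; exact hy
  have hPpG : IsPGroup p P' := P.2.map H.subtype
  obtain ⟨k, hk⟩ := hPpG.exists_card_eq
  have hk1 : 1 ≤ k := by
    by_contra h
    have h1 : Nat.card (P : Subgroup H) = 1 := by
      rw [← Nat.card_congr ((P : Subgroup H).equivMapOfInjective H.subtype H.subtype_injective).toEquiv]
        at hk
      rw [hk, show k = 0 by omega, pow_zero]
    exact P.ne_bot_of_dvd_card hpH (Subgroup.card_eq_one.mp h1)
  have hdvd : p ^ k ∣ Nat.card G := hk ▸ Subgroup.card_subgroup_dvd_card P'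
  -- `y` acts on `P'` by conjugation
  let Y : Subgroup G := Subgroup.zpowers (y : G)
  have hYN : Y ≤ N := (Subgroup.zpowers_le).mpr y.2
  let act : MulAction Y P' := MulAction.compHom P'
    ((P'.normalizerMonoidHom).comp (Subgroup.inclusion hYN))
  have hY : IsPGroup q Y := IsPGroup.of_card (n := 1) (by rw [Nat.card_zpowers, hy', pow_one])
  have hfix := hY.card_modEq_card_fixedPoints P'
  have hne1 : Nat.card (MulAction.fixedPoints Y P') ≠ 1 := by
    intro h
    rw [h, hk, Nat.ModEq, Nat.one_mod_eq_one.mpr hq.out.ne_one] at hfix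
    exact hmod k hk1 hdvd hfix
  have hone : (1 : P') ∈ MulAction.fixedPoints Y P' := fun a => map_one
    ((P'.normalizerMonoidHom).comp (Subgroup.inclusion hYN) a)
  have hnt : Nontrivial (MulAction.fixedPoints Y P') := by
    rw [← Finite.one_lt_card_iff_nontrivial]
    have : 0 < Nat.card (MulAction.fixedPoints Y P') := by
      have : Nonempty (MulAction.fixedPoints Y P') := ⟨⟨1, hone⟩⟩
      exact Nat.card_pos
    omega
  obtain ⟨⟨x, hx⟩, hxne⟩ := exists_ne (⟨1, hone⟩ : MulAction.fixedPoints Y P')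
  have hx1 : (x : G) ≠ 1 := fun h => hxne (Subtype.ext (Subtype.ext h))
  have hcomm : Commute (x : G) (y : G) := by
    have h := congrArg Subtype.val (hx ⟨(y : G), Subgroup.mem_zpowers _⟩)
    change (y : G) * (x : G) * (y : G)⁻¹ = (x : G) at h
    exact (mul_inv_eq_iff_eq_mul.mp h).symm
  obtain ⟨j, hj⟩ := hPpG.exists_orderOf_eq_pow x
  rw [← Subgroup.orderOf_coe] at hj
  have hj1 : 1 ≤ j := by
    by_contra h
    rw [show j = 0 by omega, pow_zero, orderOf_eq_one_iff] at hj
    exact hx1 hj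
  have ho : orderOf ((x : G) ^ (p ^ (j - 1))) = p := by
    rw [orderOf_pow' _ (pow_ne_zero _ hp.out.ne_zero), hj, Nat.gcd_eq_right (pow_dvd_pow p (by omega)),
      Nat.pow_div (by omega) hp.out.pos]
    simp [show j - (j - 1) = 1 by omega]
  refine ⟨(x : G) ^ (p ^ (j - 1)) * y, ?_⟩
  rw [(hcomm.pow_left _).orderOf_mul_eq_mul_orderOf_of_coprime, ho, hy']
  rw [ho, hy']
  exact (Nat.coprime_primes hp.out hq.out).mpr hne

/-- The largest normal subgroup of order avoiding a set of primes, and the section above it. -/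
theorem exists_section {G : Type*} [Group G] [Finite G] (π : Set ℕ)
    (hπ : ∀ p ∈ π, p.Prime ∧ p ∣ Nat.card G) (hne : π.Nonempty)
    (hmod : ∀ p ∈ π, ∀ q ∈ π, p ≠ q → ∀ k, 1 ≤ k → p ^ k ∣ Nat.card G → p ^ k % q ≠ 1)
    (hno : ∀ p ∈ π, ∀ q ∈ π, p ≠ q → ∀ g : G, orderOf g ≠ p * q) :
    ∃ (N H : Subgroup G) (_ : N.Normal), H.Normal ∧ N < H ∧
      (∀ K : Subgroup G, K.Normal → N ≤ K → K ≤ H → K = N ∨ K = H) ∧
      (∀ p ∈ π, p ∣ Nat.card (↥H ⧸ N.subgroupOf H)) := by
  classical
  obtain ⟨N, ⟨hNn, hNp⟩, hNmax⟩ := (Set.toFinite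
    {K : Subgroup G | K.Normal ∧ ∀ p ∈ π, ¬ p ∣ Nat.card K}).exists_maximal
      ⟨⊥, inferInstance, fun p hp h => by
        rw [Subgroup.card_bot] at h; exact (hπ p hp).1.not_dvd_one h⟩
  obtain ⟨p₀, hp₀⟩ := hne
  have hNtop : N < ⊤ := lt_top_iff_ne_top.mpr fun h => hNp p₀ hp₀ (by
    rw [h, Subgroup.card_top]; exact (hπ p₀ hp₀).2)
  obtain ⟨H, ⟨hHn, hNH⟩, hHmin⟩ := (Set.toFinite {K : Subgroup G | K.Normal ∧ N < K}).exists_minimal
      ⟨⊤, inferInstance, hNtop⟩
  have hmin : ∀ K : Subgroup G, K.Normal → N ≤ K → K ≤ H → K = N ∨ K = H := by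
    intro K hK h1 h2
    rcases h1.eq_or_lt with h | h
    · exact Or.inl h.symm
    · exact Or.inr (le_antisymm h2 (hHmin ⟨hK, h⟩ h2))
  have hmulN : Nat.card H = Nat.card N * Nat.card (↥H ⧸ N.subgroupOf H) := by
    rw [← Nat.card_congr (Subgroup.subgroupOfEquivOfLe hNH.le).toEquiv,
      ← Subgroup.index_eq_card, Subgroup.card_mul_index]
  obtain ⟨p, hp, hpH⟩ : ∃ p ∈ π, p ∣ Nat.card H := by
    by_contra! h
    exact hNH.not_ge (hNmax ⟨hHn, h⟩ hNH.le)
  have hall : ∀ q ∈ π, q ∣ Nat.card H := by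
    intro q hq
    by_contra hqH
    have hpq : p ≠ q := fun h => hqH (h ▸ hpH)
    have := Fact.mk (hπ p hp).1
    have := Fact.mk (hπ q hq).1
    have hqi : q ∣ H.index := by
      have h := (hπ q hq).2
      rw [← Subgroup.card_mul_index H] at h
      exact ((hπ q hq).1.dvd_mul.mp h).resolve_left hqH
    obtain ⟨x, hx⟩ := exists_orderOf_mul_of_normal H hpq hpH hqi (hmod p hp q hq hpq)
    exact hno p hp q hq hpq x hx
  refine ⟨N, H, hNn, hHn, hNH, hmin, fun q hq => ?_⟩
  have h := hall q hq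
  rw [hmulN] at h
  exact ((hπ q hq).1.dvd_mul.mp h).resolve_left (hNp q hq)

/-- A minimal normal section with a `p`-part of order exactly `p` is simple. -/
theorem isSimpleGroup_of_exponent_one {G : Type*} [Group G] [Finite G] (M : Subgroup G) [M.Normal]
    (hMne : M ≠ ⊥) (hmin : ∀ K : Subgroup G, K.Normal → K ≤ M → K = ⊥ ∨ K = M)
    {p : ℕ} [hp : Fact p.Prime] (hpM : p ∣ Nat.card M) (hp2 : ¬ p ^ 2 ∣ Nat.card M) :
    IsSimpleGroup M := by
  classical
  have : Nontrivial M := (Subgroup.nontrivial_iff_ne_bot M).mpr hMne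
  refine ⟨fun K hKn => ?_⟩
  by_cases hpK : p ∣ Nat.card K
  · -- `K` contains every element of order `p`, and these generate a normal subgroup of `G`
    right
    set T : Subgroup G := Subgroup.closure {g : G | g ∈ M ∧ orderOf g = p} with hT
    have hTM : T ≤ M := (Subgroup.closure_le _).mpr fun g hg => hg.1
    have hTn : T.Normal := by
      refine ⟨fun t ht g => ?_⟩
      have hle : T.map (MulAut.conj g).toMonoidHom ≤ T := by
        rw [hT, MonoidHom.map_closure, Subgroup.closure_le]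
        rintro _ ⟨u, ⟨huM, huo⟩, rfl⟩
        refine Subgroup.subset_closure ⟨Subgroup.Normal.conj_mem inferInstance u huM g, ?_⟩
        exact (orderOf_injective (MulAut.conj g).toMonoidHom (MulAut.conj g).injective u).trans huo
      exact hle ⟨t, ht, rfl⟩
    have hTeq : T = M := by
      rcases hmin T hTn hTM with h | h
      · obtain ⟨u, hu⟩ := exists_prime_orderOf_dvd_card' p hpM
        have hu' : orderOf (u : G) = p := by rw [Subgroup.orderOf_coe]; exact hu
        have : (u : G) ∈ T := Subgroup.subset_closure ⟨u.2, hu'⟩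
        rw [h, Subgroup.mem_bot] at this
        rw [this, orderOf_one] at hu'
        exact absurd hu'.symm hp.out.ne_one
      · exact h
    have hidx : ¬ p ∣ K.index := by
      intro h
      apply hp2
      rw [sq, ← Subgroup.card_mul_index K]
      exact mul_dvd_mul hpK h
    have hTK : T ≤ K.map M.subtype := by
      rw [hT, Subgroup.closure_le]
      rintro g ⟨hgM, hgo⟩
      refine ⟨⟨g, hgM⟩, ?_, rfl⟩
      rw [SetLike.mem_coe, ← QuotientGroup.eq_one_iff, ← orderOf_eq_one_iff]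
      have ho : orderOf (⟨g, hgM⟩ : M) = p := by rw [← Subgroup.orderOf_coe]; exact hgo
      have h1 : orderOf ((QuotientGroup.mk' K) ⟨g, hgM⟩) ∣ p := ho ▸ orderOf_map_dvd _ _
      rcases (Nat.dvd_prime hp.out).mp h1 with h | h
      · exact h
      · exfalso
        apply hidx
        rw [Subgroup.index_eq_card, ← h]
        exact orderOf_dvd_natCard _
    rw [eq_top_iff]
    intro m _
    obtain ⟨k, hk, hkm⟩ := hTK (hTeq.symm ▸ m.2 : (m : G) ∈ T)
    exact Subtype.ext hkm ▸ hk
  · -- a maximal normal `p'`-subgroup of `M` is normal in `G`, hence trivial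
    left
    obtain ⟨L, ⟨hLn, hLp⟩, hLmax⟩ := (Set.toFinite
      {L : Subgroup M | L.Normal ∧ ¬ p ∣ Nat.card L}).exists_maximal ⟨K, hKn, hpK⟩
    have huniv : ∀ A : Subgroup M, A.Normal → ¬ p ∣ Nat.card A → A ≤ L := by
      intro A hA hAp
      refine le_sup_left.trans (hLmax (y := A ⊔ L) ⟨inferInstance, fun h => ?_⟩ le_sup_right)
      have h2 : Nat.card ↥(A ⊔ L) = Nat.card L * L.relIndex A := by
        rw [← Subgroup.relIndex_sup_right, ← Subgroup.relIndex_bot_left, ← Subgroup.relIndex_bot_left,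
          Subgroup.relIndex_mul_relIndex _ _ _ bot_le le_sup_right]
      rw [h2] at h
      rcases hp.out.dvd_mul.mp h with h' | h'
      · exact hLp h'
      · exact hAp (h'.trans (Subgroup.relIndex_dvd_card _ _))
    have hKL : K ≤ L := huniv K hKn hpK
    have hnorm : (L.map M.subtype).Normal := by
      refine ⟨fun t ht g => ?_⟩
      obtain ⟨l, hl, rfl⟩ := ht
      let φ : MulAut M := MulAut.conjNormal g
      have h1 : (L.map φ.toMonoidHom).Normal := hLn.map _ φ.surjective
      have h2 : ¬ p ∣ Nat.card (L.map φ.toMonoidHom) := by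
        rw [← Nat.card_congr (L.equivMapOfInjective φ.toMonoidHom φ.injective).toEquiv]; exact hLp
      exact ⟨φ l, huniv _ h1 h2 ⟨l, hl, rfl⟩, MulAut.conjNormal_apply g l⟩
    rcases hmin _ hnorm (Subgroup.map_subtype_le L) with h | h
    · rw [Subgroup.map_eq_bot_iff_of_injective _ M.subtype_injective] at h
      exact le_bot_iff.mp (h ▸ hKL)
    · exfalso
      apply hLp
      rw [Nat.card_congr (L.equivMapOfInjective M.subtype M.subtype_injective).toEquiv, h]
      exact hpM

/-- `exists_section`, read in the quotient. -/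
theorem exists_minimal_normal_quotient {G : Type*} [Group G] [Finite G] (π : Set ℕ)
    (hπ : ∀ p ∈ π, p.Prime ∧ p ∣ Nat.card G) (hne : π.Nonempty)
    (hmod : ∀ p ∈ π, ∀ q ∈ π, p ≠ q → ∀ k, 1 ≤ k → p ^ k ∣ Nat.card G → p ^ k % q ≠ 1)
    (hno : ∀ p ∈ π, ∀ q ∈ π, p ≠ q → ∀ g : G, orderOf g ≠ p * q) :
    ∃ (N H : Subgroup G) (_ : N.Normal), H.Normal ∧ N < H ∧
      ∃ M : Subgroup (G ⧸ N), M.Normal ∧ M ≠ ⊥ ∧
        (∀ K : Subgroup (G ⧸ N), K.Normal → K ≤ M → K = ⊥ ∨ K = M) ∧
        Nonempty ((↥H ⧸ N.subgroupOf H) ≃* M) ∧ ∀ p ∈ π, p ∣ Nat.card M := by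
  obtain ⟨N, H, hNn, hHn, hNH, hmin, hall⟩ := exists_section π hπ hne hmod hno
  let f := QuotientGroup.mk' N
  have hMn : (H.map f).Normal := hHn.map _ (QuotientGroup.mk'_surjective N)
  have hker : f.ker = N := QuotientGroup.ker_mk' N
  let r : H →* H.map f := f.subgroupMap H
  have hrker : r.ker = N.subgroupOf H := by
    ext x
    simp only [MonoidHom.mem_ker, Subgroup.mem_subgroupOf]
    exact Subtype.ext_iff.trans (QuotientGroup.eq_one_iff (N := N) (x : G))
  let e : (↥H ⧸ N.subgroupOf H) ≃* H.map f :=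
    (QuotientGroup.quotientMulEquivOfEq hrker.symm).trans
      (QuotientGroup.quotientKerEquivOfSurjective r (f.subgroupMap_surjective H))
  refine ⟨N, H, hNn, hHn, hNH, H.map f, hMn, ?_, ?_, ⟨e⟩, fun p hp => ?_⟩
  · intro h
    rw [Subgroup.map_eq_bot_iff, hker] at h
    exact hNH.not_ge h
  · intro K hK hKM
    have h1 : N ≤ K.comap f := by
      intro x hx
      rw [Subgroup.mem_comap, show f x = 1 from (QuotientGroup.eq_one_iff (N := N) x).mpr hx]
      exact K.one_mem
    have h2 : K.comap f ≤ H := by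
      refine (Subgroup.comap_mono hKM).trans (le_of_eq ?_)
      apply Subgroup.comap_map_eq_self
      rw [hker]
      exact hNH.le
    have hs := Subgroup.map_comap_eq_self_of_surjective (QuotientGroup.mk'_surjective N) K
    rcases hmin _ (hK.comap f) h1 h2 with h | h
    · left
      rw [← hs, h, Subgroup.map_eq_bot_iff, hker]
    · right
      rw [← hs, h]
  · rw [← Nat.card_congr e.toEquiv]
    exact hall p hp

/-- The section found by `exists_section` is simple and non-abelian, if some prime has exponent one. -/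
theorem exists_simple_section {G : Type*} [Group G] [Finite G] (π : Set ℕ)
    (hπ : ∀ p ∈ π, p.Prime ∧ p ∣ Nat.card G) {p q : ℕ} (hp : p ∈ π) (hq : q ∈ π) (hpq : p ≠ q)
    (hp2 : ¬ p ^ 2 ∣ Nat.card G)
    (hmod : ∀ a ∈ π, ∀ b ∈ π, a ≠ b → ∀ k, 1 ≤ k → a ^ k ∣ Nat.card G → a ^ k % b ≠ 1)
    (hno : ∀ a ∈ π, ∀ b ∈ π, a ≠ b → ∀ g : G, orderOf g ≠ a * b) :
    ∃ (N H : Subgroup G) (_ : N.Normal), H.Normal ∧ N < H ∧
      IsSimpleGroup (↥H ⧸ N.subgroupOf H) ∧ ¬ IsMulCommutative (↥H ⧸ N.subgroupOf H) ∧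
      ∀ a ∈ π, a ∣ Nat.card (↥H ⧸ N.subgroupOf H) := by
  obtain ⟨N, H, hNn, hHn, hNH, M, hMn, hMne, hminM, ⟨e⟩, hall⟩ :=
    exists_minimal_normal_quotient π hπ ⟨p, hp⟩ hmod hno
  have := Fact.mk (hπ p hp).1
  have hcard : Nat.card M = Nat.card (↥H ⧸ N.subgroupOf H) := (Nat.card_congr e.toEquiv).symm
  have hdvdG : Nat.card M ∣ Nat.card G :=
    (Subgroup.card_subgroup_dvd_card M).trans (Subgroup.card_quotient_dvd_card N)
  have hs : IsSimpleGroup M := isSimpleGroup_of_exponent_one M hMne hminM (hall p hp)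
    (fun h => hp2 (h.trans hdvdG))
  have hsimp : IsSimpleGroup (↥H ⧸ N.subgroupOf H) := e.isSimpleGroup
  refine ⟨N, H, hNn, hHn, hNH, hsimp, fun hcomm => ?_, fun a ha => hcard ▸ hall a ha⟩
  let _ : CommGroup (↥H ⧸ N.subgroupOf H) :=
    { (inferInstance : Group (↥H ⧸ N.subgroupOf H)) with mul_comm := mul_comm' }
  have hprime : (Nat.card (↥H ⧸ N.subgroupOf H)).Prime := IsSimpleGroup.prime_card
  exact hpq (((Nat.prime_dvd_prime_iff_eq (hπ p hp).1 hprime).mp (hcard ▸ hall p hp)).trans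
    ((Nat.prime_dvd_prime_iff_eq (hπ q hq).1 hprime).mp (hcard ▸ hall q hq)).symm)

/-- Two non-adjacent primes with small `p`-parts prevent solvability. -/
theorem not_isSolvable {G : Type*} [Group G] [Finite G] {p q : ℕ} (hp : p.Prime) (hq : q.Prime)
    (hpq : p ≠ q) (hpG : p ∣ Nat.card G) (hqG : q ∣ Nat.card G)
    (hmp : ∀ k, 1 ≤ k → p ^ k ∣ Nat.card G → p ^ k % q ≠ 1)
    (hmq : ∀ k, 1 ≤ k → q ^ k ∣ Nat.card G → q ^ k % p ≠ 1)
    (hno : ∀ g : G, orderOf g ≠ p * q) : ¬ Group.IsSolvable G := by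
  intro hsol
  obtain ⟨N, H, hNn, hHn, hNH, M, hMn, hMne, hmin, -, hall⟩ :=
    exists_minimal_normal_quotient ({p, q} : Set ℕ)
    (by rintro a (rfl | rfl) <;> exact ⟨by assumption, by assumption⟩) ⟨p, Or.inl rfl⟩
    (by
      rintro a (rfl | rfl) b (rfl | rfl) hab <;> first | exact absurd rfl hab | assumption)
    (by
      rintro a (rfl | rfl) b (rfl | rfl) hab g <;>
        first | exact absurd rfl hab | exact hno g | (rw [mul_comm]; exact hno g))
  have := Fact.mk hp
  have := Fact.mk hq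
  have hlt : ⁅M, M⁆ < M := Group.IsSolvable.commutator_lt_of_ne_bot hMne
  have hcomm : ∀ a ∈ M, ∀ b ∈ M, a * b = b * a := by
    intro a ha b hb
    have h : ⁅M, M⁆ = ⊥ := (hmin _ inferInstance hlt.le).resolve_right hlt.ne
    have h' : ⁅a, b⁆ = 1 := by
      rw [← Subgroup.mem_bot, ← h]; exact Subgroup.commutator_mem_commutator ha hb
    exact commutatorElement_eq_one_iff_mul_comm.mp h'
  let T : Subgroup (G ⧸ N) :=
    { carrier := {x | x ∈ M ∧ x ^ p = 1}
      one_mem' := ⟨M.one_mem, one_pow p⟩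
      mul_mem' := fun {x y} hx hy => ⟨M.mul_mem hx.1 hy.1, by
        rw [Commute.mul_pow (hcomm x hx.1 y hy.1), hx.2, hy.2, one_mul]⟩
      inv_mem' := fun {x} hx => ⟨M.inv_mem hx.1, by rw [inv_pow, hx.2, inv_one]⟩ }
  have hTn : T.Normal := ⟨fun t ht g => ⟨hMn.conj_mem t ht.1 g, by
    rw [conj_pow, ht.2, mul_one, mul_inv_cancel]⟩⟩
  rcases hmin T hTn (fun x hx => hx.1) with h | h
  · obtain ⟨u, hu⟩ := exists_prime_orderOf_dvd_card' p (hall p (Or.inl rfl))
    have huT : (u : G ⧸ N) ∈ T := ⟨u.2, by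
      rw [← hu, ← Subgroup.orderOf_coe, pow_orderOf_eq_one]⟩
    rw [h, Subgroup.mem_bot] at huT
    rw [← Subgroup.orderOf_coe, huT, orderOf_one] at hu
    exact hp.ne_one hu.symm
  · obtain ⟨u, hu⟩ := exists_prime_orderOf_dvd_card' q (hall q (Or.inr rfl))
    have huT : (u : G ⧸ N) ∈ T := h.symm ▸ u.2
    have h3 := orderOf_dvd_of_pow_eq_one huT.2
    rw [Subgroup.orderOf_coe, hu] at h3
    exact hpq ((Nat.prime_dvd_prime_iff_eq hq hp).mp h3).symm

/-- In a symmetric group, an element of order `p * q` needs `p + q` points. -/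
theorem perm_orderOf_ne {n p q : ℕ} (hp : p.Prime) (hq : q.Prime) (hpq : p ≠ q) (h : n < p + q)
    (g : Equiv.Perm (Fin n)) : orderOf g ≠ p * q := by
  intro ho
  have hlcm : g.cycleType.lcm = p * q := by rw [Equiv.Perm.lcm_cycleType]; exact ho
  have hsum : g.cycleType.sum ≤ n := by simpa using g.sum_cycleType_le
  have key : ∀ r : ℕ, r.Prime → r ∣ p * q → ∃ c ∈ g.cycleType, r ∣ c := by
    intro r hr hd
    have h1 : r ∣ g.cycleType.prod := (hlcm ▸ hd : r ∣ g.cycleType.lcm).trans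
      (Multiset.lcm_dvd.mpr fun b hb => Multiset.dvd_prod hb)
    exact hr.prime.exists_mem_multiset_dvd h1
  obtain ⟨a, ha, hpa⟩ := key p hp (dvd_mul_right p q)
  obtain ⟨b, hb, hqb⟩ := key q hq (dvd_mul_left q p)
  have hapos : 0 < a := lt_trans zero_lt_one (Equiv.Perm.one_lt_of_mem_cycleType ha)
  have hbpos : 0 < b := lt_trans zero_lt_one (Equiv.Perm.one_lt_of_mem_cycleType hb)
  by_cases hab : a = b
  · subst hab
    have h1 : p * q ≤ a :=
      Nat.le_of_dvd hapos (Nat.Coprime.mul_dvd_of_dvd_of_dvd ((Nat.coprime_primes hp hq).mpr hpq) hpa hqb)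
    have h2 : a ≤ n := (Multiset.le_sum_of_mem ha).trans hsum
    have h3 : p + q ≤ p * q := Nat.add_le_mul hp.two_le hq.two_le
    omega
  · obtain ⟨t, ht⟩ := Multiset.exists_cons_of_mem ha
    rw [ht, Multiset.mem_cons] at hb
    have hbt : b ∈ t := hb.resolve_left (Ne.symm hab)
    have hsum' : a + t.sum ≤ n := by rw [← Multiset.sum_cons, ← ht]; exact hsum
    have := Multiset.le_sum_of_mem hbt
    have := Nat.le_of_dvd hapos hpa
    have := Nat.le_of_dvd hbpos hqb
    omega

/-- A group with the spectrum of `A_n` has no element of order `p * q` when `n < p + q`. -/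
theorem orderOf_ne_of_alternating {G : Type*} [Monoid G] {n p q : ℕ}
    (hspec : Set.range (fun g : G => orderOf g) =
      Set.range (fun g : alternatingGroup (Fin n) => orderOf g))
    (hp : p.Prime) (hq : q.Prime) (hpq : p ≠ q) (h : n < p + q) (g : G) : orderOf g ≠ p * q := by
  intro hg
  obtain ⟨x, hx⟩ := hspec ▸ (Set.mem_range_self g : orderOf g ∈ Set.range fun g : G => orderOf g)
  simp only at hx
  rw [← Subgroup.orderOf_coe, hg] at hx
  exact perm_orderOf_ne hp hq hpq h _ hx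

/-- A prime in `(n/2, n]` divides `n!` exactly once. -/
theorem not_sq_dvd_factorial {n p : ℕ} (hp : p.Prime) (h : n < 2 * p) : ¬ p ^ 2 ∣ n.factorial := by
  induction n with
  | zero =>
    rw [Nat.factorial_zero, Nat.dvd_one]
    intro h1
    have := hp.two_le
    nlinarith
  | succ n ih =>
    rw [Nat.factorial_succ]
    intro hd
    rcases Nat.lt_trichotomy (n + 1) p with h1 | h1 | h1
    · exact absurd ((hp.dvd_mul.mp ((dvd_pow_self p two_ne_zero).trans hd)).resolve_left
        (Nat.not_dvd_of_pos_of_lt (Nat.succ_pos n) h1)) (by rw [hp.dvd_factorial]; omega)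
    · rw [sq, h1, Nat.mul_dvd_mul_iff_left hp.pos, hp.dvd_factorial] at hd
      omega
    · have hcop : (p ^ 2).Coprime (n + 1) := by
        refine Nat.Coprime.pow_left 2 (hp.coprime_iff_not_dvd.mpr fun hd' => ?_)
        obtain ⟨c, hc⟩ := hd'
        rcases c with _ | _ | c
        · omega
        · omega
        · nlinarith
      exact ih (by omega) (hcop.dvd_of_dvd_mul_left hd)

/-- The residue condition for two primes in `(n/2, n]`. -/
theorem big_primes_mod {n p q k N : ℕ} (hN : N ∣ n.factorial) (hp : p.Prime) (hq : q.Prime)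
    (hpq : p ≠ q) (h2p : n < 2 * p) (h2q : n < 2 * q) (hpn : p ≤ n) (hqn : q ≤ n) (hn : 5 ≤ n)
    (hk : 1 ≤ k) (hd : p ^ k ∣ N) : p ^ k % q ≠ 1 := by
  have hk1 : k = 1 := by
    by_contra h
    exact not_sq_dvd_factorial hp h2p ((pow_dvd_pow p (by omega : 2 ≤ k)).trans (hd.trans hN))
  subst hk1
  rw [pow_one]
  rcases Nat.lt_or_ge p q with h | h
  · rw [Nat.mod_eq_of_lt h]; exact hp.ne_one
  · rw [Nat.mod_eq_sub_mod h, Nat.mod_eq_of_lt (by omega)]
    have h1 := (hp.odd_of_ne_two (by omega))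
    have h2 := (hq.odd_of_ne_two (by omega))
    obtain ⟨a, ha⟩ := h1
    obtain ⟨b, hb⟩ := h2
    omega

theorem card_alternatingGroup_dvd (n : ℕ) :
    Nat.card (alternatingGroup (Fin n)) ∣ n.factorial := by
  have h := Subgroup.card_subgroup_dvd_card (alternatingGroup (Fin n))
  rwa [Nat.card_perm, Nat.card_fin] at h

theorem dvd_card_alternatingGroup {n p : ℕ} (hn : 2 ≤ n) (hp : p.Prime) (hodd : p ≠ 2)
    (hpn : p ≤ n) : p ∣ Nat.card (alternatingGroup (Fin n)) := by
  have : Nontrivial (Fin n) := Fin.nontrivial_iff_two_le.mpr hn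
  have h : p ∣ 2 * Nat.card (alternatingGroup (Fin n)) := by
    rw [two_mul_nat_card_alternatingGroup, Nat.card_perm, Nat.card_fin]
    exact (hp.dvd_factorial).mpr hpn
  exact (hp.dvd_mul.mp h).resolve_left fun h2 =>
    hodd ((Nat.prime_dvd_prime_iff_eq hp Nat.prime_two).mp h2)

end Cfsg.Agent.Lib.NonadjacentPrimes
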