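import Cfsg.Agent.Lib.Recognition.GraphCertL33

/-! The refinement certificate of PSL(3,3) checks. -/

set_option autoImplicit false

namespace Cfsg.Agent.Lib.CommGraphData

open Cfsg.Agent.Lib

theorem l33GAut_ok : GraphAut.autCheck l33GMask l33GLast l33GLevels [] 11232 = true := by decide +kernel

end Cfsg.Agent.Lib.CommGraphData
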