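import Cfsg.Agent.Lib.Recognition.GraphCertL33
import Cfsg.Agent.Lib.Compute.Perm

/-! The involution certificate of PSL(3,3) checks. -/

set_option autoImplicit false

namespace Cfsg.Agent.Lib.CommGraphData

open Cfsg.Agent.Lib

theorem l33GCert_ok : CommGraph.certOK (Compute.permOps 8 27) l33Chain l33GMask 48
    l33GCert = true := by decide +kernel

end Cfsg.Agent.Lib.CommGraphData
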