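import Mathlib
import Cfsg.Agent.Lib.Compute.Chain

/-!
Bounding the automorphism group of a finite graph by colour refinement along a base.
-/

set_option autoImplicit false

namespace Cfsg.Agent.Lib.GraphAut

open Cfsg.Agent.Lib.Compute (forceNat forceNat_eq)

/-- Adjacency given by bit masks. -/
def adjB (M : List ℕ) (i j : ℕ) : Bool := (M.getD i 0).testBit j

/-- The sum of `2 ^ (5 c)` over the entries `c` selected by the mask. -/
noncomputable def sumMask (m : ℕ) (col : List ℕ) : ℕ :=
  List.rec (motive := fun _ => ℕ → ℕ) (fun _ => 0)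
    (fun c _ ih m => Nat.add
      (Nat.rec (motive := fun _ => ℕ) 0 (fun _ _ => Nat.pow 2 (Nat.mul 5 c)) (Nat.land m 1))
      (forceNat (Nat.div m 2) ih)) col m

theorem sumMask_cons (m c : ℕ) (cs : List ℕ) :
    sumMask m (c :: cs) = (if m.testBit 0 then 2 ^ (5 * c) else 0) + sumMask (m / 2) cs := by
  show Nat.rec (motive := fun _ => ℕ) 0 (fun _ _ => 2 ^ (5 * c)) (m &&& 1) +
    forceNat (m / 2) (fun m => sumMask m cs) = _
  rw [forceNat_eq, Nat.and_one_is_mod]
  congr 1
  rcases Nat.mod_two_eq_zero_or_one m with h | h <;> simp [h, Nat.testBit_zero]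

/-- The signature of a vertex with mask `m` and colour `c`. -/
noncomputable def sig (K m c : ℕ) (col : List ℕ) : ℕ := c + K * sumMask m col

/-- Colours agree on equal signatures. -/
noncomputable def consistent : List (ℕ × ℕ) → List (ℕ × ℕ) → Bool
  | [], _ => true
  | (s, c) :: rest, seen =>
    forceNat s fun s' =>
      (seen.all fun p => !(Nat.beq p.1 s') || Nat.beq p.2 c) && consistent rest ((s', c) :: seen)

/-- One verified refinement step. -/
noncomputable def stepOK (M col col' : List ℕ) : Bool :=
  Nat.beq col.length M.length && Nat.beq col'.length M.length &&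
    consistent ((List.zipWith (fun m c => sig M.length m c col) M col).zip col') []

/-- A verified sequence of refinements. -/
noncomputable def chainOK (M : List ℕ) : List ℕ → List (List ℕ) → Bool
  | _, [] => true
  | col, c :: cs => stepOK M col c && chainOK M c cs

/-- The initial colouring of a base prefix. -/
def initCol (n : ℕ) (pre : List ℕ) : List ℕ := (List.range n).map fun v => pre.idxOf v

/-- Verified levels: a base point with the refinements for the prefix before it. -/
noncomputable def autCheck (M : List ℕ) (last : List ℕ × List (List ℕ)) :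
    List (ℕ × List ℕ × List (List ℕ)) → List ℕ → ℕ → Bool
  | [], pre, N =>
    decide (last.1 = initCol M.length pre) && chainOK M last.1 last.2 &&
      decide ((last.2.getLastD last.1).Nodup ∧ (last.2.getLastD last.1).length = M.length) &&
      Nat.ble 1 N
  | (b, c0, cs) :: rest, pre, N =>
    decide (c0 = initCol M.length pre) && chainOK M c0 cs && Nat.blt b M.length &&
      autCheck M last rest (pre ++ [b])
        (N / ((List.range M.length).countP fun v =>
          Nat.beq ((cs.getLastD c0).getD v 0) ((cs.getLastD c0).getD b 0)))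

theorem sumMask_eq : ∀ (col : List ℕ) (m : ℕ), sumMask m col =
    ∑ i ∈ Finset.range col.length, if m.testBit i then 2 ^ (5 * col.getD i 0) else 0 := by
  intro col
  induction col with
  | nil => intro m; simp [sumMask]
  | cons c cs ih =>
    intro m
    rw [sumMask_cons, ih, List.length_cons, Finset.sum_range_succ', add_comm]
    congr 1
    refine Finset.sum_congr rfl fun i _ => ?_
    rw [Nat.testBit_div_two]
    rfl

theorem consistent_spec : ∀ (l seen : List (ℕ × ℕ)), consistent l seen = true →
    (∀ p ∈ l, ∀ q ∈ seen, q.1 = p.1 → q.2 = p.2) ∧ (∀ p ∈ l, ∀ q ∈ l, q.1 = p.1 → q.2 = p.2) := by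
  intro l
  induction l with
  | nil => intro seen _; simp
  | cons a rest ih =>
    intro seen h
    obtain ⟨s, c⟩ := a
    simp only [consistent, forceNat_eq, Bool.and_eq_true, List.all_eq_true] at h
    obtain ⟨h1, h2⟩ := h
    obtain ⟨i1, i2⟩ := ih _ h2
    have hseen : ∀ q ∈ seen, q.1 = s → q.2 = c := fun q hq e => by
      have := h1 q hq
      simp only [Bool.or_eq_true, Bool.not_eq_true'] at this
      rcases this with h' | h'
      · rw [e] at h'; simp at h'
      · exact Nat.eq_of_beq_eq_true h'
    refine ⟨?_, ?_⟩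
    · intro p hp q hq e
      rcases List.mem_cons.mp hp with rfl | hp
      · exact hseen q hq e
      · exact i1 p hp q (List.mem_cons_of_mem _ hq) e
    · intro p hp q hq e
      rcases List.mem_cons.mp hp with rfl | hp' <;> rcases List.mem_cons.mp hq with rfl | hq'
      · rfl
      · exact (i1 q hq' (s, c) List.mem_cons_self e.symm).symm
      · exact i1 p hp' (s, c) List.mem_cons_self e
      · exact i2 p hp' q hq' e

/-- The colour of vertex `i`. -/
def Preserved {n : ℕ} (col : List ℕ) (σ : Equiv.Perm (Fin n)) : Prop :=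
  ∀ i : Fin n, col.getD (σ i : ℕ) 0 = col.getD (i : ℕ) 0

/-- The automorphisms of the graph with masks `M`. -/
def autGroup (n : ℕ) (M : List ℕ) : Subgroup (Equiv.Perm (Fin n)) where
  carrier := {σ | ∀ i j : Fin n, adjB M (σ i) (σ j) = adjB M i j}
  one_mem' _ _ := rfl
  mul_mem' {a b} ha hb i j := (ha (b i) (b j)).trans (hb i j)
  inv_mem' {a} ha i j := by
    have := ha (a⁻¹ i) (a⁻¹ j)
    simpa using this.symm

theorem preserved_step {n : ℕ} {M col col' : List ℕ} (hn : M.length = n) {σ : Equiv.Perm (Fin n)}
    (hσ : σ ∈ autGroup n M) (hcol : Preserved col σ) (h : stepOK M col col' = true) :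
    Preserved col' σ := by
  simp only [stepOK, Bool.and_eq_true, Nat.beq_eq] at h
  obtain ⟨⟨h1, h2⟩, h3⟩ := h
  obtain ⟨-, hc⟩ := consistent_spec _ _ h3
  have hmem : ∀ i : Fin n, (sig M.length (M.getD i 0) (col.getD i 0) col, col'.getD i 0) ∈
      (List.zipWith (fun m c => sig M.length m c col) M col).zip col' := by
    intro i
    have hi := i.2
    rw [List.getD_eq_getElem _ _ (by omega), List.getD_eq_getElem _ _ (by omega),
      List.getD_eq_getElem _ _ (by omega)]
    refine List.mem_iff_getElem.mpr ⟨(i : ℕ), by simp [List.length_zipWith]; omega, ?_⟩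
    simp
  intro i
  refine hc _ (hmem i) _ (hmem (σ i)) ?_
  show sig _ _ _ col = sig _ _ _ col
  unfold sig
  rw [hcol i, sumMask_eq, sumMask_eq, h1, hn, ← Fin.sum_univ_eq_sum_range, ← Fin.sum_univ_eq_sum_range,
    ← Equiv.sum_comp σ]
  congr 2
  refine Finset.sum_congr rfl fun j _ => ?_
  rw [hcol j]
  have := hσ i j
  simp only [adjB] at this
  rw [this]

theorem preserved_chain {n : ℕ} {M : List ℕ} (hn : M.length = n) {σ : Equiv.Perm (Fin n)}
    (hσ : σ ∈ autGroup n M) : ∀ (cs : List (List ℕ)) (col : List ℕ), Preserved col σ →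
      chainOK M col cs = true → Preserved (cs.getLastD col) σ := by
  intro cs
  induction cs with
  | nil => intro col h _; exact h
  | cons c cs ih =>
    intro col h hc
    simp only [chainOK, Bool.and_eq_true] at hc
    rw [List.getLastD_cons]
    exact ih c (preserved_step hn hσ h hc.1) hc.2

theorem preserved_init {n : ℕ} (σ : Equiv.Perm (Fin n)) (pre : List ℕ)
    (hfix : ∀ i : Fin n, (i : ℕ) ∈ pre → σ i = i) : Preserved (initCol n pre) σ := by
  intro i
  by_cases hi : (i : ℕ) ∈ pre
  · rw [hfix i hi]
  · have hσi : (σ i : ℕ) ∉ pre := fun h => hi (by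
      have := hfix (σ i) h
      rw [σ.injective this] at h
      exact h)
    simp [initCol, List.getD_eq_getElem?_getD, List.idxOf_eq_length hi, List.idxOf_eq_length hσi]

/-- Automorphisms fixing a prefix. -/
def fixing (n : ℕ) (M pre : List ℕ) : Subgroup (Equiv.Perm (Fin n)) where
  carrier := {σ | σ ∈ autGroup n M ∧ ∀ i : Fin n, (i : ℕ) ∈ pre → σ i = i}
  one_mem' := ⟨one_mem _, fun _ _ => rfl⟩
  mul_mem' {a b} ha hb := ⟨mul_mem ha.1 hb.1, fun i hi => by
    rw [Equiv.Perm.mul_apply, hb.2 i hi, ha.2 i hi]⟩
  inv_mem' {a} ha := ⟨inv_mem ha.1, fun i hi => by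
    rw [Equiv.Perm.inv_eq_iff_eq]; exact (ha.2 i hi).symm⟩

theorem card_fixing_le {n : ℕ} {M : List ℕ} (hn : M.length = n) (last : List ℕ × List (List ℕ)) :
    ∀ (lv : List (ℕ × List ℕ × List (List ℕ))) (pre : List ℕ) (N : ℕ),
      autCheck M last lv pre N = true → Nat.card (fixing n M pre) ≤ N := by
  classical
  intro lv
  induction lv with
  | nil =>
    intro pre N h
    simp only [autCheck, Bool.and_eq_true, decide_eq_true_eq, Nat.ble_eq] at h
    obtain ⟨⟨⟨h0, hc⟩, hnd, hlen⟩, hN⟩ := h
    have : fixing n M pre = ⊥ := by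
      rw [eq_bot_iff]
      intro σ hσ
      rw [Subgroup.mem_bot]
      have hp := preserved_chain hn hσ.1 _ _ (by rw [h0, hn]; exact preserved_init σ pre hσ.2) hc
      refine Equiv.ext fun i => Fin.ext ?_
      have h1 := hp i
      have l1 : (σ i : ℕ) < (last.2.getLastD last.1).length := by
        have := (σ i).2
        omega
      have l2 : (i : ℕ) < (last.2.getLastD last.1).length := by
        have := i.2
        omega
      rw [List.getD_eq_getElem _ _ l1, List.getD_eq_getElem _ _ l2] at h1
      exact hnd.getElem_inj_iff.mp h1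
    rw [this, Subgroup.card_bot]
    exact hN
  | cons a rest ih =>
    intro pre N h
    obtain ⟨b, c0, cs⟩ := a
    simp only [autCheck, Bool.and_eq_true, decide_eq_true_eq, Nat.blt_eq] at h
    obtain ⟨⟨⟨h0, hc⟩, hb⟩, hr⟩ := h
    set c := (List.range M.length).countP fun v =>
      Nat.beq ((cs.getLastD c0).getD v 0) ((cs.getLastD c0).getD b 0) with hcdef
    have hrec := ih _ _ hr
    let bb : Fin n := ⟨b, hn ▸ hb⟩
    let P := fixing n M pre
    have hst : MulAction.stabilizer P bb = (fixing n M (pre ++ [b])).subgroupOf P := by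
      ext σ
      rw [MulAction.mem_stabilizer_iff, Subgroup.mem_subgroupOf, Subgroup.smul_def, Equiv.Perm.smul_def]
      constructor
      · intro hσ
        refine ⟨σ.2.1, fun i hi => ?_⟩
        rcases List.mem_append.mp hi with hi | hi
        · exact σ.2.2 i hi
        · obtain rfl : i = bb := Fin.ext (List.mem_singleton.mp hi)
          exact hσ
      · intro hσ
        exact hσ.2 bb (List.mem_append_right _ List.mem_cons_self)
    have horb : (MulAction.orbit P bb).ncard ≤ c := by
      have hsub : Fin.val '' MulAction.orbit P bb ⊆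
          ((List.range M.length).filter fun v =>
            Nat.beq ((cs.getLastD c0).getD v 0) ((cs.getLastD c0).getD b 0)).toFinset := by
        rintro _ ⟨_, ⟨σ, rfl⟩, rfl⟩
        have hp := preserved_chain hn σ.2.1 _ _ (by rw [h0, hn]; exact preserved_init _ pre σ.2.2) hc bb
        simp only [Finset.mem_coe, List.mem_toFinset, List.mem_filter, List.mem_range]
        exact ⟨hn.symm ▸ (σ.1 bb).2, Nat.beq_eq.mpr hp⟩
      rw [← Set.ncard_image_of_injective _ Fin.val_injective]
      refine (Set.ncard_le_ncard hsub (Finset.finite_toSet _)).trans ?_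
      rw [Set.ncard_coe_finset, hcdef, List.countP_eq_length_filter]
      exact List.toFinset_card_le _
    have hidx := MulAction.index_stabilizer P bb
    have hmul := (MulAction.stabilizer P bb).card_mul_index
    rw [hidx] at hmul
    have hle : fixing n M (pre ++ [b]) ≤ P := fun σ hσ =>
      ⟨hσ.1, fun i hi => hσ.2 i (List.mem_append_left _ hi)⟩
    rw [← hmul, hst, Nat.card_congr (Subgroup.subgroupOfEquivOfLe hle).toEquiv]
    calc _ ≤ N / c * c := Nat.mul_le_mul hrec horb
      _ ≤ N := Nat.div_mul_le_self N c

/-- The bound on the whole automorphism group. -/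
theorem card_autGroup_le {n : ℕ} {M : List ℕ} (hn : M.length = n) (last : List ℕ × List (List ℕ))
    (lv : List (ℕ × List ℕ × List (List ℕ))) {N : ℕ} (h : autCheck M last lv [] N = true) :
    Nat.card (autGroup n M) ≤ N := by
  have he : autGroup n M = fixing n M [] := by
    ext σ
    exact ⟨fun hσ => ⟨hσ, fun i hi => absurd hi List.not_mem_nil⟩, fun hσ => hσ.1⟩
  rw [he]
  exact card_fixing_le hn last lv [] N h

end Cfsg.Agent.Lib.GraphAut
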