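import Mathlib
import Cfsg.Agent.Lib.Compute.Chain
import Cfsg.Agent.Lib.Recognition.GraphAutBound

/-!
Groups with the commuting graph of a group whose involution graph has a small automorphism group.
-/

set_option autoImplicit false

namespace Cfsg.Agent.Lib.CommGraph

open Cfsg.Agent.Lib.GraphAut

variable {G H : Type*} [Group G] [Group H] [Finite G] [Finite H]

omit [Finite G] [Finite H] in
/-- A graph isomorphism on non-identity elements extends to the whole groups. -/
theorem exists_extension (f : {h : H // h ≠ 1} ≃ {g : G // g ≠ 1})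
    (hf : ∀ x y : {h : H // h ≠ 1}, (x : H) * y = y * x ↔ (f x : G) * f y = f y * f x) :
    ∃ F : H ≃ G, F 1 = 1 ∧ ∀ x y : H, x * y = y * x ↔ F x * F y = F y * F x := by
  classical
  refine ⟨{ toFun := fun x => if hx : x = 1 then 1 else (f ⟨x, hx⟩ : G)
            invFun := fun y => if hy : y = 1 then 1 else (f.symm ⟨y, hy⟩ : H)
            left_inv := fun x => ?_
            right_inv := fun y => ?_ }, ?_, ?_⟩
  · by_cases hx : x = 1
    · simp [hx]
    · simp [hx, (f ⟨x, hx⟩).2]
  · by_cases hy : y = 1
    · simp [hy]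
    · simp [hy, (f.symm ⟨y, hy⟩).2]
  · simp
  · intro x y
    by_cases hx : x = 1
    · simp [hx]
    by_cases hy : y = 1
    · simp [hy]
    simp only [Equiv.coe_fn_mk, dif_neg hx, dif_neg hy]
    exact hf ⟨x, hx⟩ ⟨y, hy⟩

omit [Finite G] [Finite H] in
theorem card_centralizer_eq (F : H ≃ G) (hF : ∀ x y : H, x * y = y * x ↔ F x * F y = F y * F x)
    (x : H) : Nat.card (Subgroup.centralizer ({x} : Set H)) =
      Nat.card (Subgroup.centralizer ({F x} : Set G)) := by
  refine Nat.card_congr (F.subtypeEquiv fun y => ?_)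
  rw [Subgroup.mem_centralizer_singleton_iff, Subgroup.mem_centralizer_singleton_iff]
  exact hF y x

omit [Finite H] in
theorem card_centralizer_conj (x k : H) :
    Nat.card (Subgroup.centralizer ({k * x * k⁻¹} : Set H)) =
      Nat.card (Subgroup.centralizer ({x} : Set H)) := by
  refine (Nat.card_congr ((MulAut.conj k).toEquiv.subtypeEquiv fun y => ?_)).symm
  rw [Subgroup.mem_centralizer_singleton_iff, Subgroup.mem_centralizer_singleton_iff]
  constructor
  · intro h
    show k * y * k⁻¹ * (k * x * k⁻¹) = k * x * k⁻¹ * (k * y * k⁻¹)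
    calc _ = k * (y * x) * k⁻¹ := by group
      _ = k * (x * y) * k⁻¹ := by rw [h]
      _ = _ := by group
  · intro h
    have h' : k * y * k⁻¹ * (k * x * k⁻¹) = k * x * k⁻¹ * (k * y * k⁻¹) := h
    calc y * x = k⁻¹ * (k * y * k⁻¹ * (k * x * k⁻¹)) * k := by group
      _ = x * y := by rw [h']; group

omit [Finite G] [Finite H] in
/-- The conjugation action on a characteristic set of vertices. -/
theorem exists_embedding {n : ℕ} (M : List ℕ) (t : Fin n → G) (ht : Function.Injective t)
    (hM : ∀ i j : Fin n, adjB M i j = true ↔ t i * t j = t j * t i) (c : ℕ)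
    (hdeg : ∀ g : G, g ∈ Set.range t ↔ Nat.card (Subgroup.centralizer ({g} : Set G)) = c)
    (hcov : ∀ g : G, (∀ i, g * t i = t i * g) → g = 1)
    (F : H ≃ G) (hF1 : F 1 = 1) (hF : ∀ x y : H, x * y = y * x ↔ F x * F y = F y * F x) :
    ∃ φ : H →* Equiv.Perm (Fin n), Function.Injective φ ∧ ∀ h, φ h ∈ autGroup n M := by
  classical
  let u : Fin n → H := fun i => F.symm (t i)
  have hu : Function.Injective u := F.symm.injective.comp ht
  have hex : ∀ (h : H) (i : Fin n), ∃ j, u j = h * u i * h⁻¹ := fun h i => by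
    obtain ⟨j, hj⟩ : F (h * u i * h⁻¹) ∈ Set.range t := by
      rw [hdeg, ← card_centralizer_eq F hF, card_centralizer_conj, card_centralizer_eq F hF,
        Equiv.apply_symm_apply, ← hdeg]
      exact ⟨i, rfl⟩
    exact ⟨j, by simp only [u]; rw [hj, Equiv.symm_apply_apply]⟩
  choose m hm using hex
  have hmul : ∀ a b i, m (a * b) i = m a (m b i) := fun a b i => by
    apply hu
    rw [hm, hm, hm]
    group
  have hone : ∀ i, m 1 i = i := fun i => hu (by rw [hm]; simp)
  let φ : H →* Equiv.Perm (Fin n) :=
    { toFun := fun h =>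
        { toFun := m h
          invFun := m h⁻¹
          left_inv := fun i => by rw [← hmul, inv_mul_cancel, hone]
          right_inv := fun i => by rw [← hmul, mul_inv_cancel, hone] }
      map_one' := Equiv.ext hone
      map_mul' := fun a b => Equiv.ext (hmul a b) }
  refine ⟨φ, ?_, ?_⟩
  · rw [injective_iff_map_eq_one]
    intro h hh
    have h1 : ∀ i, h * u i = u i * h := fun i => by
      have h2 : u i = h * u i * h⁻¹ :=
        (congrArg u (Equiv.ext_iff.mp hh i)).symm.trans (hm h i)
      rw [eq_mul_inv_iff_mul_eq] at h2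
      exact h2.symm
    refine F.injective (hF1.symm ▸ hcov _ fun i => ?_)
    have := (hF h (u i)).mp (h1 i)
    simpa only [u, Equiv.apply_symm_apply] using this
  · intro h i j
    have key : ∀ a b : Fin n, adjB M a b = true ↔ u a * u b = u b * u a := fun a b => by
      rw [hM, hF]
      simp only [u, Equiv.apply_symm_apply]
    rw [Bool.eq_iff_iff, key, key]
    show u (m h i) * u (m h j) = u (m h j) * u (m h i) ↔ _
    rw [hm, hm, show h * u i * h⁻¹ * (h * u j * h⁻¹) = h * (u i * u j) * h⁻¹ by group,
      show h * u j * h⁻¹ * (h * u i * h⁻¹) = h * (u j * u i) * h⁻¹ by group]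
    simp

/-- A finite group with the commuting graph of `G` is isomorphic to `G`. -/
theorem nonempty_mulEquiv {n : ℕ} (M : List ℕ) (t : Fin n → G) (ht : Function.Injective t)
    (hM : ∀ i j : Fin n, adjB M i j = true ↔ t i * t j = t j * t i) (c : ℕ)
    (hdeg : ∀ g : G, g ∈ Set.range t ↔ Nat.card (Subgroup.centralizer ({g} : Set G)) = c)
    (hcov : ∀ g : G, (∀ i, g * t i = t i * g) → g = 1)
    (hAut : Nat.card (autGroup n M) < 3 * Nat.card G)
    (hnoTwo : ∀ S : Subgroup G, S.index ≠ 2)
    (F : H ≃ G) (hF1 : F 1 = 1) (hF : ∀ x y : H, x * y = y * x ↔ F x * F y = F y * F x) :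
    Nonempty (H ≃* G) := by
  classical
  obtain ⟨φ, hφ, hφA⟩ := exists_embedding M t ht hM c hdeg hcov F hF1 hF
  obtain ⟨ψ, hψ, hψA⟩ := exists_embedding M t ht hM c hdeg hcov (Equiv.refl G) rfl fun _ _ => Iff.rfl
  set A := autGroup n M
  let φ' : H →* A := φ.codRestrict A hφA
  let ψ' : G →* A := ψ.codRestrict A hψA
  have hφ' : Function.Injective φ' := fun a b h => hφ (congrArg Subtype.val h)
  have hψ' : Function.Injective ψ' := fun a b h => hψ (congrArg Subtype.val h)
  have hcard : Nat.card φ'.range = Nat.card G :=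
    (Nat.card_congr (MonoidHom.ofInjective hφ').symm.toEquiv).trans (Nat.card_congr F)
  have hidx : φ'.range.index ≤ 2 := by
    by_contra hc
    have := φ'.range.card_mul_index
    rw [hcard] at this
    have hA : Nat.card G * 3 ≤ Nat.card A := this ▸ Nat.mul_le_mul_left _ (by omega)
    omega
  have hidx0 : φ'.range.index ≠ 0 := Subgroup.index_ne_zero_of_finite
  have hle : ψ'.range ≤ φ'.range := by
    rcases Nat.lt_or_ge φ'.range.index 2 with h1 | h2
    · rw [Subgroup.index_eq_one.mp (by omega : φ'.range.index = 1)]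
      exact le_top
    · have hN : φ'.range.Normal := Subgroup.normal_of_index_eq_two (by omega)
      have hd : (φ'.range.comap ψ').index ∣ 2 := by
        rw [Subgroup.index_comap]
        exact (show φ'.range.index = 2 by omega) ▸ Subgroup.relIndex_dvd_index_of_normal _ _
      have h1 : (φ'.range.comap ψ').index = 1 := by
        rcases (Nat.dvd_prime Nat.prime_two).mp hd with h | h
        · exact h
        · exact absurd h (hnoTwo _)
      rw [Subgroup.index_eq_one] at h1
      rintro _ ⟨g, rfl⟩
      exact (h1 ▸ Subgroup.mem_top g : g ∈ φ'.range.comap ψ')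
  have heq : ψ'.range = φ'.range := Subgroup.eq_of_le_of_card_ge hle
    (by rw [hcard, ← Nat.card_congr (MonoidHom.ofInjective hψ').toEquiv])
  exact ⟨(MonoidHom.ofInjective hφ').trans
    ((MulEquiv.subgroupCongr heq.symm).trans (MonoidHom.ofInjective hψ').symm)⟩

section Certificate

open Cfsg.Agent.Lib.Compute

variable {P : Type*} [Group P] [Finite P] {O : Ops}

/-- Whether two codes commute. -/
noncomputable def commB (O : Ops) (a b : ℕ) : Bool := Nat.beq (O.mul a b) (O.mul b a)

/-- The number of commuting codes in a list. -/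
noncomputable def commCount (O : Ops) (x : ℕ) : List ℕ → ℕ
  | [] => 0
  | y :: ys => forceNat y fun y' => (if commB O x y' then 1 else 0) + commCount O x ys

/-- The certificate data: involution codes, conjugators, the centraliser of the first one, and the
members of that centraliser which need a centraliser count. -/
structure Cert where
  T : List ℕ
  conj : List ℕ
  D : List ℕ
  scan : List ℕ
  pT : List (List ℕ)
  pC : List (List ℕ)
  pD : List (List ℕ)

/-- The codes are the values of the paths. -/
noncomputable def pathsOK (O : Ops) (L : List Lvl) : List ℕ → List (List ℕ) → Bool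
  | [], _ => true
  | _ :: _, [] => false
  | x :: xs, p :: ps => Nat.beq (pathEval O L p).1 x && pathsOK O L xs ps

/-- The facts needed about the group with chain `L`. -/
noncomputable def certOK (O : Ops) (L : List Lvl) (M : List ℕ) (c : ℕ) (Z : Cert) : Bool :=
  ((elems O L).all fun x => forceNat x fun x' =>
    (!(Nat.beq (O.mul x' x') O.one) || Nat.beq x' O.one || Z.T.contains x') &&
      (!(commB O x' (Z.T.headD 0)) || Z.D.contains x')) &&
  decide (Z.T.Nodup ∧ Z.T.length = M.length ∧ Z.conj.length = M.length ∧ 0 < M.length ∧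
    Z.D.Nodup ∧ Z.D.length = c) &&
  (pathsOK O L Z.T Z.pT && pathsOK O L Z.conj Z.pC && pathsOK O L Z.D Z.pD) &&
  (Z.T.all fun x => Nat.beq (O.mul x x) O.one && !(Nat.beq x O.one)) &&
  ((Z.conj.zip Z.T).all fun p =>
    Nat.beq (O.mul p.1 (Z.T.headD 0)) (O.mul p.2 p.1)) &&
  (Z.D.all fun x => commB O x (Z.T.headD 0)) &&
  (Z.D.all fun x => Nat.beq x O.one || Z.T.contains x ||
    ((Nat.beq (O.mul x x) (Z.T.headD 0) || Nat.beq (O.mul (O.mul x x) x) (Z.T.headD 0) ||
      Nat.beq (O.mul (O.mul x x) (O.mul x x)) (Z.T.headD 0)) &&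
        Z.D.any fun y => !(commB O x y)) ||
    (Z.scan.contains x)) &&
  (Z.D.contains (Z.scan.headD O.one) && !(Nat.beq (commCount O (Z.scan.headD O.one) (elems O L)) c) &&
    Z.scan.all fun x => Z.D.any fun y => Nat.beq (O.mul y x) (O.mul (Z.scan.headD O.one) y)) &&
  (Z.D.all fun x => Nat.beq x O.one || Z.T.any fun y => !(commB O x y)) &&
  ((List.range M.length).all fun i => (List.range (i + 1)).all fun j =>
    (adjB M i j == commB O (Z.T.getD i 0) (Z.T.getD j 0)) && (adjB M i j == adjB M j i))

theorem length_elems (O : Ops) : ∀ L : List Lvl, (elems O L).length = chainSize L := by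
  intro L
  induction L with
  | nil => rfl
  | cons l ls ih =>
    simp [elems, chainSize, List.length_flatten, Function.comp_def, ih]

theorem commCount_eq (O : Ops) (x : ℕ) : ∀ l : List ℕ, commCount O x l = l.countP (commB O x) := by
  intro l
  induction l with
  | nil => rfl
  | cons y ys ih =>
    rw [commCount, forceNat_eq, ih, List.countP_cons, add_comm]

omit [Finite P] in
/-- The value of a path names an element. -/
theorem exists_of_path (C : Coding P O) {S : List (ℕ × ℕ)} (hS : GensOK C S) {L : List Lvl}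
    (hL : chainCheck O S L = true) : ∀ (xs : List ℕ) (ps : List (List ℕ)),
      pathsOK O L xs ps = true → ∀ x ∈ xs, ∃ g : genGroup C S, C.enc g.1 = x := by
  intro xs
  induction xs with
  | nil => intro _ _ x hx; exact absurd hx List.not_mem_nil
  | cons a xs ih =>
    intro ps h x hx
    cases ps with
    | nil => simp [pathsOK] at h
    | cons p ps =>
      simp only [pathsOK, Bool.and_eq_true, Nat.beq_eq] at h
      rcases List.mem_cons.mp hx with rfl | hx
      · obtain ⟨g, hg, h1, -⟩ := pairOK_pathEval C hS hL p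
        exact ⟨⟨g, hg⟩, h1.trans h.1⟩
      · exact ih ps h.2 x hx

/-- The facts of `nonempty_mulEquiv` from a certificate. -/
theorem of_cert (C : Coding P O) {S : List (ℕ × ℕ)} (hS : GensOK C S) {L : List Lvl}
    (hL : chainCheck O S L = true) {M : List ℕ} {c : ℕ} (hc : c ≠ chainSize L) {Z : Cert}
    (h : certOK O L M c Z = true) :
    ∃ t : Fin M.length → genGroup C S, Function.Injective t ∧
      (∀ i j : Fin M.length, adjB M i j = true ↔ t i * t j = t j * t i) ∧
      (∀ g : genGroup C S, g ∈ Set.range t ↔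
        Nat.card (Subgroup.centralizer ({g} : Set (genGroup C S))) = c) ∧
      (∀ g : genGroup C S, (∀ i, g * t i = t i * g) → g = 1) := by
  classical
  simp only [certOK, Bool.and_eq_true, decide_eq_true_eq, List.all_eq_true, forceNat_eq,
    Bool.or_eq_true, List.contains_eq_mem, Bool.not_eq_true', Nat.beq_eq, List.mem_range,
    beq_iff_eq, List.any_eq_true] at h
  obtain ⟨⟨⟨⟨⟨⟨⟨⟨⟨hE, hTn, hTl, hCl, hpos, hDn, hDl⟩, ⟨hpT, hpC⟩, hpD⟩, hT⟩, hconj⟩, hD⟩, hDc⟩, hscan⟩, hcent⟩, hadj⟩ := h
  set E := elems O L
  let enc : genGroup C S → ℕ := fun g => C.enc g.1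
  have henc : Function.Injective enc := fun a b e => Subtype.ext (C.inj e)
  have hEmem : ∀ g : genGroup C S, enc g ∈ E := fun g => enc_mem_elems C hS hL g.2
  have hEsurj : ∀ x ∈ E, ∃ g : genGroup C S, enc g = x := fun x hx => by
    obtain ⟨g, hg, he⟩ := exists_of_mem_elems C hS hL hx
    exact ⟨⟨g, hg⟩, he⟩
  have hcardG : Nat.card (genGroup C S) = chainSize L := card_genGroup C hS hL
  have hEnd : E.Nodup := by
    suffices hcardE : E.toFinset.card = E.length by
      rw [List.card_toFinset] at hcardE
      exact List.dedup_eq_self.mp ((List.dedup_sublist E).eq_of_length hcardE)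
    rw [length_elems, ← hcardG, ← Nat.card_eq_finsetCard]
    refine (Nat.card_congr (Equiv.ofBijective (fun g => (⟨enc g, List.mem_toFinset.mpr (hEmem g)⟩ :
      {x // x ∈ E.toFinset})) ⟨fun a b e => henc (congrArg Subtype.val e), fun x => ?_⟩)).symm
    obtain ⟨g, hg⟩ := hEsurj x.1 (List.mem_toFinset.mp x.2)
    exact ⟨g, Subtype.ext hg⟩
  have hcomm : ∀ a b : genGroup C S, commB O (enc a) (enc b) = true ↔ a * b = b * a := fun a b => by
    rw [commB, Nat.beq_eq, C.mul_enc, C.mul_enc]
    exact ⟨fun e => Subtype.ext (C.inj e), fun e => by rw [← Subgroup.coe_mul, e, Subgroup.coe_mul]⟩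
  have hcount : ∀ g : genGroup C S,
      Nat.card (Subgroup.centralizer ({g} : Set (genGroup C S))) = E.countP (commB O (enc g)) := by
    intro g
    rw [List.countP_eq_length_filter, ← List.toFinset_card_of_nodup (hEnd.filter _),
      ← Nat.card_eq_finsetCard]
    refine Nat.card_congr (Equiv.ofBijective (fun k => (⟨enc k.1, ?_⟩ :
      {x // x ∈ (E.filter (commB O (enc g))).toFinset})) ⟨?_, ?_⟩)
    · rw [List.mem_toFinset, List.mem_filter]
      exact ⟨hEmem _, (hcomm _ _).mpr (Subgroup.mem_centralizer_singleton_iff.mp k.2).symm⟩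
    · intro a b e
      exact Subtype.ext (henc (congrArg Subtype.val e))
    · rintro ⟨x, hx⟩
      rw [List.mem_toFinset, List.mem_filter] at hx
      obtain ⟨k, rfl⟩ := hEsurj x hx.1
      exact ⟨⟨k, Subgroup.mem_centralizer_singleton_iff.mpr ((hcomm _ _).mp hx.2).symm⟩, rfl⟩
  have hone : enc 1 = O.one := C.one_enc
  have hE1 := hE
  have hTE : ∀ x ∈ Z.T, ∃ g : genGroup C S, enc g = x := by
    intro x hx
    exact exists_of_path C hS hL _ _ hpT x hx
  choose t0 ht0 using fun i : Fin M.length =>
    hTE (Z.T.getD i 0) (by rw [List.getD_eq_getElem _ _ (by omega)]; exact List.getElem_mem _)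
  have htinj : Function.Injective t0 := fun a b e => by
    have h1 : Z.T.getD a 0 = Z.T.getD b 0 := by rw [← ht0, ← ht0, e]
    rw [List.getD_eq_getElem _ _ (by omega), List.getD_eq_getElem _ _ (by omega)] at h1
    exact Fin.ext (hTn.getElem_inj_iff.mp h1)
  have hrange : ∀ g : genGroup C S, g ∈ Set.range t0 ↔ enc g ∈ Z.T := by
    intro g
    constructor
    · rintro ⟨i, rfl⟩
      rw [ht0, List.getD_eq_getElem _ _ (by omega)]
      exact List.getElem_mem _
    · intro hg
      obtain ⟨i, hi, he⟩ := List.getElem_of_mem hg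
      refine ⟨⟨i, hTl ▸ hi⟩, henc ?_⟩
      rw [ht0, List.getD_eq_getElem _ _ hi]
      exact he
  set i0 : Fin M.length := ⟨0, hpos⟩
  have hhead : Z.T.headD 0 = enc (t0 i0) := by
    rw [ht0]
    cases hq : Z.T with
    | nil => rfl
    | cons a l => rfl
  have hDiff : ∀ g : genGroup C S, g * t0 i0 = t0 i0 * g ↔ enc g ∈ Z.D := by
    intro g
    rw [← hcomm, ← hhead]
    constructor
    · intro hg
      rcases (hE1 _ (hEmem g)).2 with h' | h'
      · rw [hg] at h'; exact absurd h' (by simp)
      · exact h'
    · intro hg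
      exact hD _ hg
  have hc0 : Nat.card (Subgroup.centralizer ({t0 i0} : Set (genGroup C S))) = c := by
    rw [← hDl, ← List.toFinset_card_of_nodup hDn, ← Nat.card_eq_finsetCard]
    refine Nat.card_congr (Equiv.ofBijective (fun k => (⟨enc k.1, ?_⟩ : {x // x ∈ Z.D.toFinset}))
      ⟨?_, ?_⟩)
    · rw [List.mem_toFinset, ← hDiff]
      exact Subgroup.mem_centralizer_singleton_iff.mp k.2
    · intro a b e
      exact Subtype.ext (henc (congrArg Subtype.val e))
    · rintro ⟨x, hx⟩
      rw [List.mem_toFinset] at hx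
      obtain ⟨k, rfl⟩ := exists_of_path C hS hL _ _ hpD x hx
      exact ⟨⟨k, Subgroup.mem_centralizer_singleton_iff.mpr ((hDiff k).mpr hx)⟩, rfl⟩
  have hinv : ∀ g : genGroup C S, g ≠ 1 → g * g = 1 → g ∈ Set.range t0 := by
    intro g hg hgg
    rw [hrange]
    rcases (hE1 _ (hEmem g)).1 with (h' | h') | h'
    · have hb : Nat.beq (O.mul (enc g) (enc g)) O.one = true := Nat.beq_eq.mpr (by
        rw [C.mul_enc, ← hone]
        exact congrArg (fun z : genGroup C S => C.enc z.1) hgg)
      rw [hb] at h'
      exact absurd h' (by simp)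
    · exact absurd (henc (h'.trans hone.symm)) hg
    · exact h'
  have hTinv : ∀ i, t0 i * t0 i = 1 ∧ t0 i ≠ 1 := by
    intro i
    obtain ⟨h2, h3⟩ := hT (enc (t0 i)) ((hrange _).mp ⟨i, rfl⟩)
    refine ⟨Subtype.ext (C.inj ?_), fun e => ?_⟩
    · rw [Subgroup.coe_mul, ← C.mul_enc, h2, Subgroup.coe_one, C.one_enc]
    · rw [e, hone] at h3
      exact absurd h3 (by simp)
  have hTconj : ∀ i, ∃ k, k * t0 i0 * k⁻¹ = t0 i := by
    intro i
    have hmemz : (Z.conj.getD i 0, Z.T.getD i 0) ∈ Z.conj.zip Z.T := by
      rw [List.getD_eq_getElem _ _ (by omega), List.getD_eq_getElem _ _ (by omega)]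
      exact List.mem_iff_getElem.mpr ⟨(i : ℕ), by simp; omega, by simp⟩
    have he := hconj _ hmemz
    obtain ⟨k, hk⟩ := exists_of_path C hS hL _ _ hpC (Z.conj.getD i 0)
      (List.of_mem_zip hmemz).1
    refine ⟨k, mul_inv_eq_iff_eq_mul.mpr (Subtype.ext (C.inj ?_))⟩
    rw [Subgroup.coe_mul, Subgroup.coe_mul, ← C.mul_enc, ← C.mul_enc]
    show O.mul (C.enc k.1) (enc (t0 i0)) = O.mul (enc (t0 i)) (C.enc k.1)
    rw [hk, ← hhead, ht0]
    exact he
  refine ⟨t0, htinj, ?_, ?_, ?_⟩
  · intro i j
    rcases Nat.lt_or_ge (i : ℕ) j with hij | hij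
    · obtain ⟨h1, h2⟩ := hadj j j.2 i (Nat.lt_succ_of_lt hij)
      rw [← h2, h1, ← ht0, ← ht0]
      exact (hcomm _ _).trans eq_comm
    · rw [(hadj i i.2 j (Nat.lt_succ_of_le hij)).1, ← ht0, ← ht0]
      exact hcomm _ _
  · intro g
    constructor
    · rintro ⟨i, rfl⟩
      obtain ⟨k, hk⟩ := hTconj i
      rw [← hk, card_centralizer_conj, hc0]
    · intro hg
      by_contra hnot
      have hg1 : g ≠ 1 := by
        rintro rfl
        rw [show Subgroup.centralizer ({1} : Set (genGroup C S)) = ⊤ from
          top_unique fun z _ => Subgroup.mem_centralizer_singleton_iff.mpr (by simp),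
          Subgroup.card_top, hcardG] at hg
        exact hc hg.symm
      -- an involution commuting with `g`
      obtain ⟨j, hj⟩ : ∃ j, g * t0 j = t0 j * g := by
        have h2 : 2 ∣ Nat.card (Subgroup.centralizer ({t0 i0} : Set (genGroup C S))) := by
          have ho : orderOf (⟨t0 i0, Subgroup.mem_centralizer_singleton_iff.mpr rfl⟩ :
              Subgroup.centralizer ({t0 i0} : Set (genGroup C S))) = 2 := by
            rw [← Subgroup.orderOf_coe]
            exact orderOf_eq_prime (by rw [pow_two]; exact (hTinv i0).1) (hTinv i0).2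
          exact ho ▸ orderOf_dvd_natCard _
        have : Fact (Nat.Prime 2) := ⟨Nat.prime_two⟩
        obtain ⟨z, hz⟩ := exists_prime_orderOf_dvd_card'
          (G := Subgroup.centralizer ({g} : Set (genGroup C S))) 2 (hg ▸ hc0 ▸ h2)
        rw [← Subgroup.orderOf_coe] at hz
        have hz2 : (z : genGroup C S) * z = 1 := by rw [← pow_two, ← hz, pow_orderOf_eq_one]
        obtain ⟨j, hj⟩ := hinv _ (fun e => by rw [e, orderOf_one] at hz; omega) hz2
        exact ⟨j, by rw [hj]; exact (Subgroup.mem_centralizer_singleton_iff.mp z.2).symm⟩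
      obtain ⟨k, hk⟩ := hTconj j
      set g' := k⁻¹ * g * k with hg'
      have hg'c : Nat.card (Subgroup.centralizer ({g'} : Set (genGroup C S))) = c := by
        rw [← hg, hg', ← card_centralizer_conj g k⁻¹, inv_inv]
      have hg't : g' * t0 i0 = t0 i0 * g' := by
        rw [show t0 i0 = k⁻¹ * t0 j * k by rw [← hk]; group, hg']
        calc k⁻¹ * g * k * (k⁻¹ * t0 j * k) = k⁻¹ * (g * t0 j) * k := by group
          _ = k⁻¹ * (t0 j * g) * k := by rw [hj]
          _ = _ := by group
      have hg'not : g' ∉ Set.range t0 := by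
        rintro ⟨l, hl⟩
        refine hnot (hinv g hg1 ?_)
        have h2 := (hTinv l).1
        rw [hl, hg'] at h2
        calc g * g = k * (k⁻¹ * g * k * (k⁻¹ * g * k)) * k⁻¹ := by group
          _ = 1 := by rw [h2]; group
      rcases hDc _ ((hDiff g').mp hg't) with ((h' | h') | ⟨hp, y, hy, hxy⟩) | h'
      · exact hg1 (by
          have := henc (h'.trans hone.symm)
          calc g = k * g' * k⁻¹ := by rw [hg']; group
            _ = 1 := by rw [this]; group)
      · exact hg'not ((hrange _).mpr h')
      · -- a power is the involution, so the centraliser is properly smaller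
        have hle : Subgroup.centralizer ({g'} : Set (genGroup C S)) ≤
            Subgroup.centralizer ({t0 i0} : Set (genGroup C S)) := by
          intro z hz
          rw [Subgroup.mem_centralizer_singleton_iff] at hz ⊢
          have hcz : Commute z g' := hz
          have hp' : t0 i0 = g' * g' ∨ t0 i0 = g' * g' * g' ∨ t0 i0 = g' * g' * (g' * g') := by
            rw [hhead] at hp
            simp only [enc, C.mul_enc] at hp
            rcases hp with (e | e) | e
            · exact Or.inl (Subtype.ext (C.inj e.symm))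
            · exact Or.inr (Or.inl (Subtype.ext (C.inj e.symm)))
            · exact Or.inr (Or.inr (Subtype.ext (C.inj e.symm)))
          rcases hp' with e | e | e <;> rw [e]
          · exact hcz.mul_right hcz
          · exact (hcz.mul_right hcz).mul_right hcz
          · exact (hcz.mul_right hcz).mul_right (hcz.mul_right hcz)
        obtain ⟨yy, rfl⟩ := exists_of_path C hS hL _ _ hpD y hy
        have heq := Subgroup.eq_of_le_of_card_ge hle (by rw [hc0, hg'c])
        have : yy ∈ Subgroup.centralizer ({g'} : Set (genGroup C S)) := heq ▸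
          Subgroup.mem_centralizer_singleton_iff.mpr ((hDiff yy).mpr hy)
        rw [(hcomm g' yy).mpr (Subgroup.mem_centralizer_singleton_iff.mp this).symm] at hxy
        exact absurd hxy (by simp)
      · obtain ⟨y, hy, hxy⟩ := hscan.2 _ h'
        obtain ⟨yy, rfl⟩ := exists_of_path C hS hL _ _ hpD y hy
        have hz : enc (yy * g' * yy⁻¹) = Z.scan.headD O.one := by
          obtain ⟨w, hw⟩ := exists_of_path C hS hL _ _ hpD _ hscan.1.1
          rw [← hw] at hxy ⊢
          simp only [enc, C.mul_enc] at hxy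
          have h2 : yy * g' = w * yy := Subtype.ext (C.inj hxy)
          rw [h2, mul_inv_cancel_right]
        have h1 := hscan.1.2
        rw [commCount_eq, ← hz, ← hcount, card_centralizer_conj, hg'c] at h1
        simp at h1
  · intro g hg
    rcases hcent _ ((hDiff g).mp (hg i0)) with h' | ⟨y, hy, hxy⟩
    · exact henc (h'.trans hone.symm)
    · obtain ⟨z, rfl⟩ := hTE y hy
      obtain ⟨i, rfl⟩ := (hrange z).mpr hy
      rw [(hcomm g (t0 i)).mpr (hg i)] at hxy
      exact absurd hxy (by simp)

end Certificate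

end Cfsg.Agent.Lib.CommGraph
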