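import Cfsg.Agent.Lib.Recognition.GraphCertM11

/-! The refinement certificate of M11 checks. -/

set_option autoImplicit false

namespace Cfsg.Agent.Lib.CommGraphData

open Cfsg.Agent.Lib

theorem m11GAut_ok : GraphAut.autCheck m11GMask m11GLast m11GLevels [] 7920 = true := by decide +kernel

end Cfsg.Agent.Lib.CommGraphData
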