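import Cfsg.Agent.Lib.Recognition.GraphCertM11
import Cfsg.Agent.Lib.Compute.Mathieu.CertM11

/-! The involution certificate of M11 checks. -/

set_option autoImplicit false

namespace Cfsg.Agent.Lib.CommGraphData

open Cfsg.Agent.Lib

theorem m11GCert_ok : CommGraph.certOK (Compute.permOps 8 24) Compute.Mathieu.m11Chain m11GMask 48
    m11GCert = true := by decide +kernel

end Cfsg.Agent.Lib.CommGraphData
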